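import Groth.Agent.SymAlg.PullBC
import Groth.Agent.QC.Localisation
import Groth.Agent.QC.Pullback
import Mathlib.AlgebraicGeometry.Morphisms.Flat
import Mathlib.Algebra.Category.Ring.Constructions
/-!
Base change of modules along a cartesian square with an affine side.
-/

set_option autoImplicit false
set_option linter.style.haveILetI false
set_option backward.isDefEq.respectTransparency false

universe u

open CategoryTheory CategoryTheory.Limits AlgebraicGeometry TopologicalSpace Opposite
open Groth.Agent.QC (res resO res_res res_self app_res)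
open Groth.Agent.RelTilde

noncomputable section

namespace Groth.Agent.W7AffBC

/-- A base change of modules along `C → D` is one along `A → B` when `D` is the pushout. -/
theorem existsUnique_of_isPushout {A B C D : CommRingCat.{u}} {φ : A ⟶ B} {ψ : A ⟶ C} {a : C ⟶ D} {b : B ⟶ D}
    (H : IsPushout ψ φ a b) {M : Type u} [AddCommGroup M] [Module C M] [Module A M]
    (hM : ∀ (x : A) (m : M), x • m = ψ.hom x • m)
    {N : Type u} [AddCommGroup N] [Module D N] [Module B N]
    (hN : ∀ (x : B) (n : N), x • n = b.hom x • n) (r : M → N)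
    (hbc : ∀ (Q : Type u) [AddCommGroup Q] [Module D Q] (w : M →ₛₗ[a.hom] Q),
      ∃! f : N →ₗ[D] Q, ∀ m, f (r m) = w m)
    (hr : ∀ (c : C) (m : M), r (c • m) = a.hom c • r m)
    (Q : Type u) [AddCommGroup Q] [Module B Q] (w : M →ₛₗ[φ.hom] Q) :
    ∃! f : N →ₗ[B] Q, ∀ m, f (r m) = w m := by
  letI algAC : Algebra A C := ψ.hom.toAlgebra
  letI algAB : Algebra A B := φ.hom.toAlgebra
  letI algCD : Algebra C D := a.hom.toAlgebra
  letI algBD : Algebra B D := b.hom.toAlgebra
  letI algAD : Algebra A D := (b.hom.comp φ.hom).toAlgebra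
  haveI : IsScalarTower A B D := IsScalarTower.of_algebraMap_eq fun _ => rfl
  haveI : IsScalarTower A C D := IsScalarTower.of_algebraMap_eq fun x =>
    (ConcreteCategory.congr_hom H.w x).symm
  haveI hP : Algebra.IsPushout A B C D := (CommRingCat.isPushout_iff_isPushout).1 H.flip
  letI : Module A Q := Module.compHom Q φ.hom
  haveI : IsScalarTower A B Q := ⟨fun x y z => mul_smul (φ.hom x) y z⟩
  let j : C →ₗ[A] D := (IsScalarTower.toAlgHom A C D).toLinearMap
  have hj : IsBaseChange B j := hP.out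
  let ev : M → (C →ₗ[A] Q) := fun m =>
    { toFun := fun c => w (c • m)
      map_add' := fun c c' => by rw [add_smul, map_add]
      map_smul' := fun x c => by
        show w ((ψ.hom x * c) • m) = φ.hom x • w (c • m)
        rw [mul_smul, ← hM, map_smulₛₗ] }
  let L : M → (D →ₗ[B] Q) := fun m => hj.lift (ev m)
  have hL : ∀ m c, L m (a.hom c) = w (c • m) := fun m c => hj.lift_eq (ev m) c
  let mulD : D → (D →ₗ[B] D) := fun d => LinearMap.mulLeft B d
  letI : SMul D (D →ₗ[B] Q) := ⟨fun d F => F.comp (LinearMap.mulLeft B d)⟩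
  have smul_def : ∀ (d : D) (F : D →ₗ[B] Q) (e : D), (d • F) e = F (d * e) := fun _ _ _ => rfl
  letI : Module D (D →ₗ[B] Q) :=
    { one_smul := fun F => LinearMap.ext fun e => by rw [smul_def, one_mul]
      mul_smul := fun d d' F => LinearMap.ext fun e => by
        rw [smul_def, smul_def, smul_def, ← mul_assoc, mul_comm d d']
      smul_zero := fun d => LinearMap.ext fun e => rfl
      smul_add := fun d F G => LinearMap.ext fun e => rfl
      add_smul := fun d d' F => LinearMap.ext fun e => by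
        rw [LinearMap.add_apply, smul_def, smul_def, smul_def, add_mul, map_add]
      zero_smul := fun F => LinearMap.ext fun e => by rw [smul_def, zero_mul, map_zero]; rfl }
  let w' : M →ₛₗ[a.hom] (D →ₗ[B] Q) :=
    { toFun := L
      map_add' := fun m m' => hj.algHom_ext _ _ fun c => by
        show L (m + m') (a.hom c) = L m (a.hom c) + L m' (a.hom c)
        rw [hL, hL, hL, smul_add, map_add]
      map_smul' := fun c' m => hj.algHom_ext _ _ fun c => by
        show L (c' • m) (a.hom c) = L m (a.hom c' * a.hom c)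
        rw [hL, ← map_mul, hL, ← mul_smul, mul_comm] }
  obtain ⟨F, hF, hFu⟩ := hbc (D →ₗ[B] Q) w'
  let f : N →ₗ[B] Q :=
    { toFun := fun n => F n 1
      map_add' := fun n n' => by rw [map_add]; rfl
      map_smul' := fun x n => by
        rw [hN, map_smul, smul_def, mul_one, RingHom.id_apply, ← map_smul (F n)]
        congr 1
        exact (mul_one _).symm.trans (Algebra.smul_def x (1 : D)).symm }
  refine ⟨f, fun m => ?_, fun g hg => LinearMap.ext fun n => ?_⟩
  · show F (r m) 1 = w m
    rw [hF]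
    show L m 1 = w m
    rw [← map_one a.hom, hL, one_smul]
  · let G : N →ₗ[D] (D →ₗ[B] Q) :=
      { toFun := fun n =>
          { toFun := fun d => g (d • n)
            map_add' := fun d d' => by rw [add_smul, map_add]
            map_smul' := fun x d => by
              rw [Algebra.smul_def, mul_smul, RingHom.id_apply, ← map_smul g, hN]
              rfl }
        map_add' := fun n n' => LinearMap.ext fun d => by
          show g (d • (n + n')) = g (d • n) + g (d • n')
          rw [smul_add, map_add]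
        map_smul' := fun d' n => LinearMap.ext fun d => by
          show g (d • d' • n) = g ((d' * d) • n)
          rw [← mul_smul, mul_comm] }
    have : G = F := hFu G fun m => hj.algHom_ext _ _ fun c => by
      show g (a.hom c • r m) = L m (a.hom c)
      rw [hL, ← hr, hg]
    show g n = F n 1
    rw [← this]
    show g n = g ((1 : D) • n)
    rw [one_smul]

variable {X S X' S' : Scheme.{u}} {f : X ⟶ S} {g : S' ⟶ S} {g' : X' ⟶ X} {f' : X' ⟶ S'}

/-- The base change map `f_* M ⟶ g_* f'_* g'^* M`. -/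
def theta (h : IsPullback g' f' f g) (M : X.Modules) :
    (Scheme.Modules.pushforward f).obj M ⟶
      (Scheme.Modules.pushforward g).obj ((Scheme.Modules.pushforward f').obj ((Scheme.Modules.pullback g').obj M)) :=
  (Scheme.Modules.pushforward f).map ((Scheme.Modules.pullbackPushforwardAdjunction g').unit.app M) ≫
    (Scheme.Modules.pushforwardComp g' f).hom.app _ ≫
    (Scheme.Modules.pushforwardCongr h.w).hom.app _ ≫
    (Scheme.Modules.pushforwardComp f' g).inv.app _

lemma theta_app (h : IsPullback g' f' f g) (M : X.Modules) (U : S.Opens) (m : Γ(M, f ⁻¹ᵁ U))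
    (e : f' ⁻¹ᵁ (g ⁻¹ᵁ U) ≤ g' ⁻¹ᵁ (f ⁻¹ᵁ U)) :
    (theta h M).app U m = res ((Scheme.Modules.pullback g').obj M) e
      (((Scheme.Modules.pullbackPushforwardAdjunction g').unit.app M).app (f ⁻¹ᵁ U) m) := by
  rfl

/-- Affine base change of modules. -/
theorem isIso_baseChange (h : IsPullback g' f' f g) [IsAffineHom f] (M : X.Modules) (hM : Coh.IsQCoh M) :
    IsIso (((Scheme.Modules.pullbackPushforwardAdjunction g).homEquiv _ _).symm (theta h M)) := by
  haveI : M.IsQuasicoherent := hM
  haveI : IsAffineHom f' := MorphismProperty.of_isPullback h inferInstance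
  haveI : ((Scheme.Modules.pullback g').obj M).IsQuasicoherent := QC.isQCoh_pullback g' hM
  refine isIso_adjunct g (theta h M) (QC.isQCoh_pushforward f) (QC.isQCoh_pushforward f') fun x => ?_
  obtain ⟨U, hU, hxU, -⟩ := exists_isAffineOpen_mem_and_subset (x := g x) (U := (⊤ : S.Opens)) trivial
  obtain ⟨V, hV, hxV, hVU⟩ := exists_isAffineOpen_mem_and_subset (x := x) (U := g ⁻¹ᵁ U) hxU
  refine ⟨U, hU, V, hV, hVU, hxV, ?_⟩
  have hW : IsAffineOpen (f ⁻¹ᵁ U) := hU.preimage f
  have hW' : IsAffineOpen (f' ⁻¹ᵁ V) := hV.preimage f'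
  have hle : f' ⁻¹ᵁ V ≤ g' ⁻¹ᵁ (f ⁻¹ᵁ U) := by
    rw [← Scheme.Hom.comp_preimage, h.w, Scheme.Hom.comp_preimage]
    exact f'.preimage_mono hVU
  have hUY : f' ⁻¹ᵁ V = g' ⁻¹ᵁ (f ⁻¹ᵁ U) ⊓ f' ⁻¹ᵁ V := (inf_eq_right.2 hle).symm
  have H : IsPushout (f.appLE U (f ⁻¹ᵁ U) le_rfl) (g.appLE U V hVU)
      (g'.appLE (f ⁻¹ᵁ U) (f' ⁻¹ᵁ V) hle) (f'.appLE V (f' ⁻¹ᵁ V) le_rfl) :=
    (isIso_pushoutSection_iff h hVU le_rfl hUY).1 (isIso_pushoutSection_of_isAffineOpen h hVU le_rfl hUY hU hV hW)
  have hbc := isBC_unit g' (L := M) hM hW hW' hle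
  intro Q _ _ w
  let r : Γ(M, f ⁻¹ᵁ U) → Γ((Scheme.Modules.pullback g').obj M, f' ⁻¹ᵁ V) :=
    fun m => resθ g' ((Scheme.Modules.pullbackPushforwardAdjunction g').unit.app M) hle m
  have e0 : f' ⁻¹ᵁ (g ⁻¹ᵁ U) ≤ g' ⁻¹ᵁ (f ⁻¹ᵁ U) := by
    rw [← Scheme.Hom.comp_preimage, ← Scheme.Hom.comp_preimage, h.w]
  have key : ∀ m : Γ(M, f ⁻¹ᵁ U), resθ g (theta h M) hVU m = r m := fun m =>
    (congrArg (res ((Scheme.Modules.pullback g').obj M) (f'.preimage_mono hVU)) (theta_app h M U m e0)).trans
      (res_res _ _ _ _)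
  letI : Module Γ(S, U) Γ(M, f ⁻¹ᵁ U) :=
    inferInstanceAs (Module Γ(S, U) Γ((Scheme.Modules.pushforward f).obj M, U))
  letI : Module Γ(S', V) Γ((Scheme.Modules.pullback g').obj M, f' ⁻¹ᵁ V) :=
    inferInstanceAs (Module Γ(S', V) Γ((Scheme.Modules.pushforward f').obj ((Scheme.Modules.pullback g').obj M), V))
  obtain ⟨F, hF, hFu⟩ := existsUnique_of_isPushout H (M := Γ(M, f ⁻¹ᵁ U))
    (hM := fun x m => by rw [Scheme.Hom.appLE_eq_app]; rfl)
    (N := Γ((Scheme.Modules.pullback g').obj M, f' ⁻¹ᵁ V))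
    (hN := fun x n => by rw [Scheme.Hom.appLE_eq_app]; rfl)
    r (fun Q' _ _ w' => hbc Q' w') (fun c m => map_smulₛₗ _ c m) Q w
  exact ⟨F, fun m => (congrArg F (key m)).trans (hF m), fun G hG => hFu G fun m => (congrArg G (key m)).symm.trans (hG m)⟩

end Groth.Agent.W7AffBC
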